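import Groth.Agent.OmegaUniv.Unram
import Groth.Agent.SmoothReg.Scheme
import Groth.Agent.H23.RedSub
import Groth.Agent.Lib.CurveSection
import Groth.Prelude.Def_FixPt
import Mathlib.RingTheory.Ideal.KrullsHeightTheorem

/-!
# Fibres of the sheaf of relative differentials and cotangent spaces of subvarieties of the fibres
-/

set_option autoImplicit false
set_option linter.style.haveILetI false
set_option backward.isDefEq.respectTransparency false
set_option backward.isDefEq.respectTransparency.types false
set_option synthInstance.maxHeartbeats 400000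

universe u

open CategoryTheory CategoryTheory.Limits AlgebraicGeometry TopologicalSpace Opposite
open Groth.Agent.Synt29

namespace Groth.Agent.OmegaFibre5

/-- An element of the base vanishes on an integral scheme mapped to a point. -/
theorem stalkMap_eq_zero {Z Y : Scheme.{u}} [IsIntegral Z] (g : Z ⟶ Y) (z : Z)
    (hg : g (genericPoint Z) = g z) {a : Y.presheaf.stalk (g z)}
    (ha : a ∈ IsLocalRing.maximalIdeal (Y.presheaf.stalk (g z))) : (g.stalkMap z).hom a = 0 := by
  have h := genericPoint_specializes z
  letI := (isField_stalk_generic (X := Z)).toField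
  refine (injective_iff_map_eq_zero _).1 stalkSpecializes_injective _ ?_
  rw [← CommRingCat.comp_apply, ← g.stalkSpecializes_stalkMap (genericPoint Z) z h, CommRingCat.comp_apply]
  have h2 : (Y.presheaf.stalkSpecializes (h.map g.continuous)).hom a ∈
      IsLocalRing.maximalIdeal (Y.presheaf.stalk (g (genericPoint Z))) := by
    revert h
    generalize genericPoint Z = η at hg ⊢
    intro h
    have aux : ∀ (w : Y) (hw : w ⤳ g z), w = g z → (Y.presheaf.stalkSpecializes hw).hom a ∈
        IsLocalRing.maximalIdeal (Y.presheaf.stalk w) := by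
      rintro w hw rfl
      rw [TopCat.Presheaf.stalkSpecializes_refl]
      exact ha
    exact aux _ _ hg
  by_contra hne
  exact h2 (isUnit_of_map_unit (g.stalkMap (genericPoint Z)).hom _ (Ne.isUnit hne))
where
  stalkSpecializes_injective :
      Function.Injective (Z.presheaf.stalkSpecializes (genericPoint_specializes z)).hom := IsFractionRing.injective (Z.presheaf.stalk z) Z.functionField
  isField_stalk_generic {X : Scheme.{u}} [IsIntegral X] : IsField (X.presheaf.stalk (genericPoint X)) :=
    Field.toIsField X.functionField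

variable {k : Type u} [Field k] [IsAlgClosed k] {X Y : Scheme.{u}}
  [X.Over (Spec (CommRingCat.of k))] [Y.Over (Spec (CommRingCat.of k))]
  [LocallyOfFiniteType (X ↘ Spec (CommRingCat.of k))] [LocallyOfFiniteType (Y ↘ Spec (CommRingCat.of k))]

attribute [local instance] FixPt.fiberModule

theorem le_finrank_fiber (f : X ⟶ Y) (hf : f ≫ (Y ↘ Spec (CommRingCat.of k)) = X ↘ Spec (CommRingCat.of k))
    {Z : Scheme.{u}} [IsIntegral Z] (ι : Z ⟶ X) [IsClosedImmersion ι] (z : Z) (hz : IsClosed ({z} : Set Z))
    (hfib : f (ι (genericPoint Z)) = f (ι z)) (r : ℕ) (hr : topologicalKrullDim Z = r) :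
    r ≤ Module.finrank k (FixPt.fiber (Omega.sheaf f) (ι z)) := by
  let x := ι z
  let S := Z.presheaf.stalk z
  let R := X.presheaf.stalk x
  let π : R →+* S := (ι.stalkMap z).hom
  have hπ : Function.Surjective π := ι.stalkMap_surjective z
  have hx : IsClosed ({x} : Set X) := by
    simpa using ι.isClosedEmbedding.isClosedMap _ hz
  haveI : LocallyOfFiniteType f := by
    haveI : LocallyOfFiniteType (f ≫ (Y ↘ Spec (CommRingCat.of k))) := hf ▸ inferInstance
    exact locallyOfFiniteType_of_comp f (Y ↘ Spec (CommRingCat.of k))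
  haveI : IsLocallyNoetherian X := LocallyOfFiniteType.isLocallyNoetherian (X ↘ Spec (CommRingCat.of k))
  let sk := Curv2.stalkMap k X x
  letI algR : Algebra k R := sk.toAlgebra
  letI algS : Algebra k S := (π.comp sk).toAlgebra
  letI modRS : Algebra R S := π.toAlgebra
  haveI : IsScalarTower k R S := IsScalarTower.of_algebraMap_eq fun _ => rfl
  -- residue constants
  have hres : ∀ s : S, ∃ c : k, s - algebraMap k S c ∈ IsLocalRing.maximalIdeal S := fun s => by
    obtain ⟨a, rfl⟩ := hπ s
    obtain ⟨c, hc⟩ := CurveSection.exists_stalkMap_sub_mem k hx a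
    refine ⟨c, ?_⟩
    show π a - π (sk c) ∈ _
    rw [← map_sub]
    exact map_nonunit π _ hc
  choose cst hcst using hres
  have huniq : ∀ c c' : k, algebraMap k S c - algebraMap k S c' ∈ IsLocalRing.maximalIdeal S → c = c' := by
    intro c c' h
    by_contra hne
    rw [← map_sub] at h
    exact h ((Ne.isUnit (sub_ne_zero.2 hne)).map _)
  let W := IsLocalRing.CotangentSpace S
  let δ₀ : S → W := fun s => Ideal.toCotangent _ ⟨s - algebraMap k S (cst s), hcst s⟩
  have hδ₀ : ∀ (s : S) (c : k) (h : s - algebraMap k S c ∈ IsLocalRing.maximalIdeal S),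
      δ₀ s = Ideal.toCotangent _ ⟨s - algebraMap k S c, h⟩ := fun s c h => by
    obtain rfl : cst s = c := huniq _ _ (by
      have := sub_mem h (hcst s)
      rwa [sub_sub_sub_cancel_left] at this)
    rfl
  have hδadd : ∀ a b, δ₀ (a + b) = δ₀ a + δ₀ b := fun a b => by
    rw [hδ₀ (a + b) (cst a + cst b) (by rw [map_add, add_sub_add_comm]; exact add_mem (hcst a) (hcst b))]
    refine (congrArg _ (Subtype.ext ?_)).trans (map_add _ _ _)
    simp only [map_add, Submodule.coe_add]
    abel
  have hsmul : ∀ (a : S) (w : W), a • w = algebraMap k S (cst a) • w := fun a w => by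
    obtain ⟨m, rfl⟩ := Ideal.toCotangent_surjective _ w
    rw [← map_smul, ← map_smul, Ideal.toCotangent_eq, pow_two]
    show a * m.1 - algebraMap k S (cst a) * m.1 ∈ _
    rw [← sub_mul]
    exact Ideal.mul_mem_mul (hcst a) m.2
  have hδmul : ∀ a b, δ₀ (a * b) = a • δ₀ b + b • δ₀ a := fun a b => by
    rw [hδ₀ (a * b) (cst a * cst b) (by
      rw [map_mul, show a * b - algebraMap k S (cst a) * algebraMap k S (cst b) =
        a * (b - algebraMap k S (cst b)) + algebraMap k S (cst b) * (a - algebraMap k S (cst a)) by ring]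
      exact add_mem (Ideal.mul_mem_left _ _ (hcst b)) (Ideal.mul_mem_left _ _ (hcst a))),
      hsmul b, ← map_smul, ← map_smul, ← map_add]
    congr 1
    refine Subtype.ext ?_
    simp only [map_mul, Submodule.coe_add, Submodule.coe_smul, smul_eq_mul]
    ring
  obtain ⟨U, hU, V, hV, hxU, e⟩ := OmegaStalk.exists_charts f x
  let A := Γ(X, U)
  let C := Γ(Y, V)
  letI := (f.appLE V U e).hom.toAlgebra
  letI := QCoh.stalkAlg (X := X) hxU
  letI : Module A W := Module.compHom W (π.comp (algebraMap A R))
  letI : Module R W := Module.compHom W π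
  haveI : IsScalarTower A R W := IsScalarTower.of_algebraMap_smul fun _ _ => rfl
  letI : Module C W := Module.compHom W (algebraMap C A)
  haveI : IsScalarTower C A W := IsScalarTower.of_algebraMap_smul fun _ _ => rfl
  have hyV : f x ∈ V := e hxU
  let D : Derivation C A W := Derivation.mk'
    { toFun := fun a => δ₀ (π (algebraMap A R a))
      map_add' := fun a b => by rw [map_add, map_add, hδadd]
      map_smul' := fun c a => by
        rw [Algebra.smul_def, map_mul, map_mul, hδmul]
        have h0 : δ₀ (π (algebraMap A R (algebraMap C A c))) = 0 := by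
          have hc : algebraMap A R (algebraMap C A c) = (f.stalkMap x).hom (Y.presheaf.germ V (f x) hyV c) := by
            show X.presheaf.germ U x hxU (f.appLE V U e c) = _
            rw [Scheme.Hom.germ_stalkMap_apply, Scheme.Hom.appLE, CommRingCat.comp_apply,
              TopCat.Presheaf.germ_res_apply']
          have hy : IsClosed ({f x} : Set Y) := by
            haveI : JacobsonSpace X := LocallyOfFiniteType.jacobsonSpace (X ↘ Spec (CommRingCat.of k))
            haveI : JacobsonSpace Y := LocallyOfFiniteType.jacobsonSpace (Y ↘ Spec (CommRingCat.of k))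
            exact mem_closedPoints_iff.1 (f.closePoints_subset_preimage_closedPoints (mem_closedPoints_iff.2 hx))
          obtain ⟨t, ht⟩ := CurveSection.exists_stalkMap_sub_mem k hy (Y.presheaf.germ V (f x) hyV c)
          have h2 : π ((f.stalkMap x).hom (Y.presheaf.germ V (f x) hyV c - Curv2.stalkMap k Y (f x) t)) = 0 := by
            have h3 := stalkMap_eq_zero (ι ≫ f) z hfib ht
            rwa [Scheme.Hom.stalkMap_comp] at h3
          rw [map_sub, map_sub, sub_eq_zero] at h2
          rw [hc, h2]
          have h4 : π ((f.stalkMap x).hom (Curv2.stalkMap k Y (f x) t)) = algebraMap k S t := by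
            refine congrArg π ?_
            show (f.stalkMap x).hom (Y.presheaf.germ ⊤ (f x) trivial _) = _
            rw [Scheme.Hom.germ_stalkMap_apply]
            refine congrArg (X.presheaf.germ ⊤ x trivial) ?_
            show ((Y ↘ Spec (CommRingCat.of k)).appTop ≫ f.appTop) _ = _
            rw [← Scheme.Hom.comp_appTop, hf]
            rfl
          rw [h4, hδ₀ _ t (by rw [sub_self]; exact zero_mem _)]
          exact (congrArg _ (Subtype.ext (sub_self _))).trans (map_zero _)
        rw [h0, smul_zero, add_zero]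
        rfl }
    (fun a b => by
      show δ₀ (π (algebraMap A R (a * b))) = _
      rw [map_mul, map_mul, hδmul]
      rfl)
  letI := QCoh.stalkModule (Omega.sheaf f) hxU
  haveI := QCoh.isLocalizedModule_germLin (OmegaUniv.isQCoh_omega f) hU hxU
  haveI : IsScalarTower A R ((Omega.sheaf f).presheaf.stalk x) := IsScalarTower.of_algebraMap_smul fun _ _ => rfl
  haveI : IsLocalization.AtPrime R (hU.primeIdealOf ⟨x, hxU⟩).asIdeal := QCoh.isLocalization_stalk' hU hxU
  obtain ⟨l⟩ := OmegaStalk.exists_linearEquiv_sections (OmegaUniv.isUniversal_dOmega f) hU hV e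
  let L₀ : Γ(Omega.sheaf f, U) →ₗ[A] W := D.liftKaehlerDifferential.comp l.toLinearMap
  have hunit : ∀ s : (hU.primeIdealOf ⟨x, hxU⟩).asIdeal.primeCompl,
      IsUnit (algebraMap A (Module.End A W) s.1) := fun s => by
    obtain ⟨u, hu⟩ := IsLocalization.map_units R s
    rw [Module.End.isUnit_iff]
    refine Function.bijective_iff_has_inverse.2 ⟨fun w => (↑u⁻¹ : R) • w, fun w => ?_, fun w => ?_⟩
    · show (↑u⁻¹ : R) • (algebraMap A R s.1) • w = w
      rw [← hu, smul_smul, Units.inv_mul, one_smul]
    · show (algebraMap A R s.1) • (↑u⁻¹ : R) • w = w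
      rw [← hu, smul_smul, Units.mul_inv, one_smul]
  let L₁ : (Omega.sheaf f).presheaf.stalk x →ₗ[A] W :=
    IsLocalizedModule.lift (hU.primeIdealOf ⟨x, hxU⟩).asIdeal.primeCompl (QCoh.germLin (Omega.sheaf f) hxU) L₀ hunit
  let L : (Omega.sheaf f).presheaf.stalk x →ₗ[R] W :=
    LinearMap.extendScalarsOfIsLocalization (hU.primeIdealOf ⟨x, hxU⟩).asIdeal.primeCompl R L₁
  have hkill : IsLocalRing.maximalIdeal R • (⊤ : Submodule R ((Omega.sheaf f).presheaf.stalk x)) ≤ LinearMap.ker L := by
    refine Submodule.smul_le.2 fun a ha m _ => ?_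
    rw [LinearMap.mem_ker, map_smul]
    obtain ⟨w, hw⟩ := Ideal.toCotangent_surjective _ (L m)
    rw [← hw]
    show π a • Ideal.toCotangent _ w = 0
    rw [← map_smul, Ideal.toCotangent_eq_zero, pow_two]
    exact Ideal.mul_mem_mul (map_nonunit π _ ha) w.2
  let Lb : FixPt.fiber (Omega.sheaf f) x →ₗ[R] W := Submodule.liftQ _ L hkill
  have hrange : LinearMap.range Lb = ⊤ := by
    rw [Submodule.range_liftQ, eq_top_iff]
    intro w _
    obtain ⟨⟨s, hs⟩, rfl⟩ := Ideal.toCotangent_surjective _ w
    obtain ⟨a, rfl⟩ := hπ s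
    obtain ⟨b, ⟨u, hu⟩, hb⟩ := IsLocalization.exists_mk'_eq (hU.primeIdealOf ⟨x, hxU⟩).asIdeal.primeCompl a
    have hab : algebraMap A R b = algebraMap A R u * a := by
      rw [← hb]; exact (IsLocalization.mk'_spec' R b ⟨u, hu⟩).symm
    obtain ⟨v, hv⟩ := IsLocalization.map_units R (⟨u, hu⟩ : (hU.primeIdealOf ⟨x, hxU⟩).asIdeal.primeCompl)
    have hLD : L (QCoh.germLin (Omega.sheaf f) hxU (l.symm (KaehlerDifferential.D C A b))) =
        δ₀ (π (algebraMap A R b)) := by
      show L₁ _ = _
      rw [IsLocalizedModule.lift_apply]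
      show D.liftKaehlerDifferential (l (l.symm _)) = _
      rw [l.apply_symm_apply]
      exact Derivation.liftKaehlerDifferential_comp_D D b
    have hm : δ₀ (π a) = Ideal.toCotangent _ ⟨π a, hs⟩ := by
      rw [hδ₀ (π a) 0 (by simpa using hs)]
      congr 1
      exact Subtype.ext (by simp)
    rw [hab, map_mul, hδmul, hm] at hLD
    have hz0 : π a • δ₀ (π (algebraMap A R u)) = 0 := by
      obtain ⟨w', hw'⟩ := Ideal.toCotangent_surjective _ (δ₀ (π (algebraMap A R u)))
      rw [← hw', ← map_smul, Ideal.toCotangent_eq_zero, pow_two]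
      exact Ideal.mul_mem_mul hs w'.2
    rw [hz0, add_zero] at hLD
    refine ⟨(↑v⁻¹ : R) • QCoh.germLin (Omega.sheaf f) hxU (l.symm (KaehlerDifferential.D C A b)), ?_⟩
    rw [map_smul, hLD]
    have hRW : ∀ (a' : R) (w' : W), a' • w' = π a' • w' := fun _ _ => rfl
    rw [hRW, smul_smul, ← map_mul]
    change π ((↑v⁻¹ : R) * algebraMap A R u) • _ = _
    rw [← show (v : R) = algebraMap A R u from hv, Units.inv_mul, map_one, one_smul]
  haveI : IsScalarTower k S W := inferInstance
  haveI : IsScalarTower k (IsLocalRing.ResidueField S) W := IsScalarTower.of_algebraMap_smul fun c w => by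
    rw [IsScalarTower.algebraMap_apply k S (IsLocalRing.ResidueField S), algebraMap_smul, algebraMap_smul]
  let Lk : FixPt.fiber (Omega.sheaf f) x →ₗ[k] W :=
    { toFun := Lb
      map_add' := map_add Lb
      map_smul' := fun c m => by
        show Lb (sk c • m) = c • Lb m
        rw [map_smul, ← algebraMap_smul S c (Lb m)]
        rfl }
  haveI : Module.Finite R ((Omega.sheaf f).presheaf.stalk x) :=
    QCoh.finite_stalk_of_isFT (OmegaUniv.isQCoh_omega f) (OmegaUniv.isFT_omega f) x
  haveI : IsScalarTower k R (FixPt.fiber (Omega.sheaf f) x) := IsScalarTower.of_algebraMap_smul fun _ _ => rfl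
  haveI : Module.Finite k (FixPt.fiber (Omega.sheaf f) x) := by
    obtain ⟨n, g, hg⟩ := Module.Finite.exists_fin (R := R) (M := FixPt.fiber (Omega.sheaf f) x)
    classical
    refine ⟨⟨Finset.univ.image g, eq_top_iff.2 fun m _ => ?_⟩⟩
    have hm : m ∈ Submodule.span R (Set.range g) := hg ▸ trivial
    obtain ⟨co, rfl⟩ := (Submodule.mem_span_range_iff_exists_fun R).1 hm
    refine Submodule.sum_mem _ fun i _ => ?_
    obtain ⟨c, hc⟩ := CurveSection.exists_stalkMap_sub_mem k hx (co i)
    have : co i • g i = c • g i := by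
      obtain ⟨m', hm'⟩ := Submodule.Quotient.mk_surjective _ (g i)
      rw [← algebraMap_smul R c (g i), ← sub_eq_zero, ← sub_smul, ← hm', ← Submodule.Quotient.mk_smul,
        Submodule.Quotient.mk_eq_zero]
      exact Submodule.smul_mem_smul hc Submodule.mem_top
    rw [this]
    exact Submodule.smul_mem _ _ (Submodule.subset_span (by simp))
  haveI : IsLocallyNoetherian Z := LocallyOfFiniteType.isLocallyNoetherian (ι ≫ (X ↘ Spec (CommRingCat.of k)))
  haveI : IsNoetherianRing S := inferInstance
  have hbij : Function.Bijective (algebraMap k (IsLocalRing.ResidueField S)) :=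
    ⟨(algebraMap k (IsLocalRing.ResidueField S)).injective, fun y => by
      obtain ⟨s, rfl⟩ := IsLocalRing.residue_surjective y
      exact ⟨cst s, (Ideal.Quotient.eq.2 (hcst s)).symm⟩⟩
  have hdim : (r : WithBot ℕ∞) ≤ (Module.finrank (IsLocalRing.ResidueField S) W : WithBot ℕ∞) := by
    rw [← hr, ← SmoothReg.ringKrullDim_stalk_closedPoint (ι ≫ (X ↘ Spec (CommRingCat.of k))) hz,
      ← IsLocalRing.spanFinrank_maximalIdeal_eq_finrank_cotangentSpace]
    exact ringKrullDim_le_spanFinrank_maximalIdeal _
  have hk : Module.finrank k W = Module.finrank (IsLocalRing.ResidueField S) W := by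
    rw [← Module.finrank_mul_finrank k (IsLocalRing.ResidueField S) W,
      show Module.finrank k (IsLocalRing.ResidueField S) = 1 from
        (LinearEquiv.ofBijective (Algebra.linearMap k (IsLocalRing.ResidueField S)) hbij).finrank_eq.symm.trans
          (Module.finrank_self k), one_mul]
  have hsurj : Function.Surjective Lk := fun w => (LinearMap.range_eq_top.1 hrange) w
  calc r ≤ Module.finrank (IsLocalRing.ResidueField S) W := by exact_mod_cast hdim
    _ = Module.finrank k W := hk.symm
    _ ≤ Module.finrank k (FixPt.fiber (Omega.sheaf f) x) := LinearMap.finrank_le_finrank_of_surjective hsurj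

end Groth.Agent.OmegaFibre5
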